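import Cfsg.Agent.Lib.Helper21.StronglyEmbedded

set_option autoImplicit false

namespace Cfsg.Agent.Lib.Helper21

open Subgroup

variable {G : Type*} [Group G]

/-- Standing hypothesis: all involution centralisers are elementary abelian 2-groups. -/
def ElemCent (G : Type*) [Group G] : Prop :=
  ∀ t : G, orderOf t = 2 → IsMulCommutative (Subgroup.centralizer ({t} : Set G)) ∧
    ∀ c ∈ Subgroup.centralizer ({t} : Set G), c ^ 2 = 1

namespace ElemCent

theorem isPGroup_centralizer (hC : ElemCent G) {t : G} (ht : orderOf t = 2) :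
    IsPGroup 2 (Subgroup.centralizer ({t} : Set G)) := by
  intro c
  refine ⟨1, ?_⟩
  apply Subtype.ext
  simpa using (hC t ht).2 c c.2

/-- A nontrivial Sylow 2-subgroup is the centraliser of each of its involutions. -/
theorem centralizer_eq_sylow [Finite G] (hC : ElemCent G) (T : Sylow 2 G) {x : G}
    (hx : orderOf x = 2) (hxT : x ∈ T) : Subgroup.centralizer ({x} : Set G) = T := by
  have : Fact (Nat.Prime 2) := ⟨Nat.prime_two⟩
  have hnt : Nontrivial (T : Subgroup G) :=
    ⟨⟨⟨x, hxT⟩, 1, fun h => ne_one_of_orderOf_two hx (congrArg Subtype.val h)⟩⟩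
  have hcn : Nontrivial (Subgroup.center (T : Subgroup G)) := T.2.center_nontrivial
  have hcp : IsPGroup 2 (Subgroup.center (T : Subgroup G)) := T.2.to_subgroup _
  obtain ⟨k, hk⟩ := hcp.exists_card_eq
  have hk0 : k ≠ 0 := by
    rintro rfl
    rw [pow_zero] at hk
    have := Finite.one_lt_card_iff_nontrivial.mpr hcn
    omega
  obtain ⟨z, hz⟩ := exists_prime_orderOf_dvd_card' (G := Subgroup.center (T : Subgroup G)) 2
    (by rw [hk]; exact dvd_pow_self 2 hk0)
  have hz2 : orderOf ((z : (T : Subgroup G)) : G) = 2 := by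
    rw [Subgroup.orderOf_coe, Subgroup.orderOf_coe, hz]
  have hTz : (T : Subgroup G) ≤ Subgroup.centralizer ({((z : (T : Subgroup G)) : G)} : Set G) := by
    intro a ha
    rw [Subgroup.mem_centralizer_singleton_iff]
    have := Subgroup.mem_center_iff.mp z.2 ⟨a, ha⟩
    exact congrArg Subtype.val this
  have hzT := T.3 (isPGroup_centralizer hC hz2) hTz
  have hcomm := (hC _ hz2).1
  have hTx : (T : Subgroup G) ≤ Subgroup.centralizer ({x} : Set G) := by
    intro a ha
    rw [Subgroup.mem_centralizer_singleton_iff]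
    have := hcomm.is_comm.comm ⟨a, hTz ha⟩ ⟨x, hTz hxT⟩
    exact congrArg Subtype.val this
  exact T.3 (isPGroup_centralizer hC hx) hTx

/-- Involutions of `N_G(T)` lie in `T`. -/
theorem mem_sylow_of_mem_normalizer (T : Sylow 2 G) {x : G} (hx : orderOf x = 2)
    (hxN : x ∈ normalizer ((T : Subgroup G) : Set G)) : x ∈ T := by
  have hp : IsPGroup 2 (zpowers x) := by
    apply IsPGroup.of_card (n := 1)
    rw [Nat.card_zpowers, hx, pow_one]
  have h1 : IsPGroup 2 (zpowers x ⊔ (T : Subgroup G) : Subgroup G) :=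
    hp.to_sup_of_normal_right' T.2 (by rw [zpowers_le]; exact hxN)
  have h2 := T.3 h1 le_sup_right
  have h3 : x ∈ (zpowers x ⊔ (T : Subgroup G) : Subgroup G) := mem_sup_left (mem_zpowers x)
  rw [h2] at h3
  exact h3

theorem sylow_ne_bot (T : Sylow 2 G) (hnc : ¬ IsCyclic (T : Subgroup G)) :
    (T : Subgroup G) ≠ ⊥ := by
  intro h
  apply hnc
  rw [h]
  infer_instance

/-- `N_G(T)` is strongly embedded. -/
theorem isStronglyEmbedded_normalizer [Finite G] (hC : ElemCent G) (T : Sylow 2 G)
    (hnc : ¬ IsCyclic (T : Subgroup G)) (hnn : ¬ (T : Subgroup G).Normal) :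
    Cfsg.IsStronglyEmbedded (Subgroup.normalizer ((T : Subgroup G) : Set G)) := by
  have : Fact (Nat.Prime 2) := ⟨Nat.prime_two⟩
  refine ⟨fun h => hnn (Subgroup.normalizer_eq_top_iff.mp h), ?_, ?_⟩
  · obtain ⟨k, hk⟩ := T.2.exists_card_eq
    have hk0 : k ≠ 0 := by
      rintro rfl
      rw [pow_zero, Subgroup.card_eq_one] at hk
      exact sylow_ne_bot T hnc hk
    have h1 : Nat.card (T : Subgroup G) ∣ Nat.card (normalizer ((T : Subgroup G) : Set G)) :=
      Subgroup.card_dvd_of_le Subgroup.le_normalizer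
    rw [hk] at h1
    exact even_iff_two_dvd.mpr ((dvd_pow_self 2 hk0).trans h1)
  · intro g hg
    rw [← Nat.not_even_iff_odd]
    intro heven
    obtain ⟨x, hx⟩ := exists_prime_orderOf_dvd_card' (G := ↥(normalizer ((T : Subgroup G) : Set G) ⊓
      (normalizer ((T : Subgroup G) : Set G)).map (MulAut.conj g).toMonoidHom)) 2
      (even_iff_two_dvd.mp heven)
    have hx2 : orderOf (x : G) = 2 := by rw [Subgroup.orderOf_coe, hx]
    have hxT : (x : G) ∈ T := mem_sylow_of_mem_normalizer T hx2 x.2.1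
    have hx' : g⁻¹ * (x : G) * g ∈ normalizer ((T : Subgroup G) : Set G) :=
      (mem_map_conj_iff _ g _).mp x.2.2
    have hx'2 : orderOf (g⁻¹ * (x : G) * g) = 2 := by
      have := orderOf_conj_eq' g⁻¹ (x : G)
      rw [inv_inv] at this
      rw [this, hx2]
    have hx'T : g⁻¹ * (x : G) * g ∈ T := mem_sylow_of_mem_normalizer T hx'2 hx'
    have h1 := centralizer_eq_sylow hC T hx2 hxT
    have h2 := centralizer_eq_sylow hC T hx'2 hx'T
    apply hg
    rw [Subgroup.mem_normalizer_iff]
    intro a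
    rw [← h1]
    conv_lhs => rw [h1, ← h2]
    rw [Subgroup.mem_centralizer_singleton_iff, Subgroup.mem_centralizer_singleton_iff]
    constructor
    · intro h
      calc g * a * g⁻¹ * (x : G) = g * (a * (g⁻¹ * (x : G) * g)) * g⁻¹ := by group
        _ = g * ((g⁻¹ * (x : G) * g) * a) * g⁻¹ := by rw [h]
        _ = (x : G) * (g * a * g⁻¹) := by group
    · intro h
      calc a * (g⁻¹ * (x : G) * g) = g⁻¹ * (g * a * g⁻¹ * (x : G)) * g := by group
        _ = g⁻¹ * ((x : G) * (g * a * g⁻¹)) * g := by rw [h]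
        _ = g⁻¹ * (x : G) * g * a := by group

end ElemCent

end Cfsg.Agent.Lib.Helper21
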