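import Mathlib
import Cfsg.Prelude.Def_TwoFusion
import Cfsg.Prelude.Def_Transfer

set_option autoImplicit false

namespace Cfsg.Agent.Lib.Helper21

open Subgroup
open scoped Pointwise

variable {G : Type*} [Group G]

/-- In a finite group, if conjugation by `g` maps `A` into itself so does conjugation by `g⁻¹`. -/
theorem conj_inv_mem_of_forall_conj_mem [Finite G] (A : Subgroup G) (g : G)
    (h : ∀ a ∈ A, g * a * g⁻¹ ∈ A) : ∀ a ∈ A, g⁻¹ * a * g ∈ A := by
  have hk : ∀ k : ℕ, ∀ a ∈ A, g ^ k * a * (g ^ k)⁻¹ ∈ A := by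
    intro k
    induction k with
    | zero => intro a ha; simpa using ha
    | succ k ih =>
      intro a ha
      have := h _ (ih a ha)
      have e : g ^ (k + 1) * a * (g ^ (k + 1))⁻¹ = g * (g ^ k * a * (g ^ k)⁻¹) * g⁻¹ := by
        rw [pow_succ']; group
      rw [e]; exact this
  intro a ha
  have hg : g ^ (orderOf g - 1) = g⁻¹ := by
    have hpos : 0 < orderOf g := orderOf_pos g
    have : g ^ (orderOf g - 1) * g = 1 := by
      rw [← pow_succ, Nat.sub_add_cancel hpos, pow_orderOf_eq_one]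
    exact eq_inv_of_mul_eq_one_left this
  have := hk (orderOf g - 1) a ha
  rw [hg, inv_inv] at this
  exact this

theorem mem_sylow_smul_iff {p : ℕ} (P : Sylow p G) (g x : G) :
    x ∈ ((g • P : Sylow p G) : Subgroup G) ↔ g⁻¹ * x * g ∈ (P : Subgroup G) := by
  rw [Sylow.coe_subgroup_smul, Subgroup.mem_pointwise_smul_iff_inv_smul_mem]
  simp [MulAut.smul_def, mul_assoc]

/-- Strong closure does not depend on the Sylow subgroup. -/
theorem IsStronglyClosed.of_sylow [Finite G] {p : ℕ} [Fact p.Prime] (P Q : Sylow p G)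
    (A : Subgroup G) (hAQ : A ≤ Q) (hA : Cfsg.IsStronglyClosed A (P : Subgroup G)) :
    Cfsg.IsStronglyClosed A (Q : Subgroup G) := by
  obtain ⟨g, rfl⟩ := MulAction.exists_smul_eq G P Q
  have h1 : ∀ a ∈ A, g⁻¹ * a * g⁻¹⁻¹ ∈ A := by
    intro a ha
    apply hA.2 a ha
    have := (mem_sylow_smul_iff P g a).mp (hAQ ha)
    simpa using this
  have h2 := conj_inv_mem_of_forall_conj_mem A g⁻¹ h1
  refine ⟨hAQ, fun x hx h hh => ?_⟩
  have h3 := (mem_sylow_smul_iff P g _).mp hh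
  have h4 : (g⁻¹ * h) * x * (g⁻¹ * h)⁻¹ ∈ A := by
    apply hA.2 x hx
    have e : (g⁻¹ * h) * x * (g⁻¹ * h)⁻¹ = g⁻¹ * (h * x * h⁻¹) * g := by group
    rw [e]; exact h3
  have h5 := h2 _ h4
  have e : g⁻¹⁻¹ * ((g⁻¹ * h) * x * (g⁻¹ * h)⁻¹) * g⁻¹ = h * x * h⁻¹ := by group
  rwa [e] at h5

theorem mem_map_conj_iff (W : Subgroup G) (g x : G) :
    x ∈ W.map (MulAut.conj g).toMonoidHom ↔ g⁻¹ * x * g ∈ W := by
  constructor
  · rintro ⟨w, hw, rfl⟩
    simpa [mul_assoc] using hw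
  · intro h
    exact ⟨_, h, by simp [mul_assoc]⟩

theorem mem_normalizer_of_map_conj_eq {W : Subgroup G} {g : G}
    (h : W.map (MulAut.conj g).toMonoidHom = W) : g ∈ normalizer (W : Set G) := by
  rw [Subgroup.mem_normalizer_iff]
  intro x
  conv_rhs => rw [← h, mem_map_conj_iff]
  have : g⁻¹ * (g * x * g⁻¹) * g = x := by group
  rw [this]

theorem map_conj_eq_of_mem_normalizer {W : Subgroup G} {g : G}
    (h : g ∈ normalizer (W : Set G)) : W.map (MulAut.conj g).toMonoidHom = W := by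
  ext x
  rw [mem_map_conj_iff]
  have h' := inv_mem h
  rw [Subgroup.mem_normalizer_iff] at h'
  rw [h' x, inv_inv]

/-- Two `p`-subgroups of a subgroup `C` can be brought into a common `p`-subgroup of `C` by an
element of `C`. -/
theorem exists_conj_le_pGroup [Finite G] {p : ℕ} [Fact p.Prime] (C A B : Subgroup G) (hA : A ≤ C)
    (hB : B ≤ C) (hpA : IsPGroup p A) (hpB : IsPGroup p B) :
    ∃ c ∈ C, ∃ R : Subgroup G, IsPGroup p R ∧ R ≤ C ∧ A ≤ R ∧
      B.map (MulAut.conj c).toMonoidHom ≤ R := by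
  have hA' : IsPGroup p (A.subgroupOf C) := hpA.comap_subtype
  have hB' : IsPGroup p (B.subgroupOf C) := hpB.comap_subtype
  obtain ⟨Q1, hQ1⟩ := hA'.exists_le_sylow
  obtain ⟨Q2, hQ2⟩ := hB'.exists_le_sylow
  obtain ⟨c, hc⟩ := MulAction.exists_smul_eq C Q2 Q1
  refine ⟨c, c.2, (Q1 : Subgroup C).map C.subtype, Q1.2.map _, ?_, ?_, ?_⟩
  · rintro _ ⟨x, _, rfl⟩
    exact x.2
  · intro a ha
    exact ⟨⟨a, hA ha⟩, hQ1 (by simpa [Subgroup.mem_subgroupOf] using ha), rfl⟩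
  · rintro _ ⟨b, hb, rfl⟩
    refine ⟨c * ⟨b, hB hb⟩ * c⁻¹, ?_, by simp⟩
    rw [← hc]
    apply (mem_sylow_smul_iff Q2 c _).mpr
    have : c⁻¹ * (c * ⟨b, hB hb⟩ * c⁻¹) * c = ⟨b, hB hb⟩ := by group
    rw [this]
    exact hQ2 (by simpa [Subgroup.mem_subgroupOf] using hb)

/-- The image of a strongly closed subgroup in a quotient is strongly closed. -/
theorem IsStronglyClosed.map_mk' [Finite G] {p : ℕ} [Fact p.Prime] (S : Sylow p G)
    (A : Subgroup G) (hA : Cfsg.IsStronglyClosed A (S : Subgroup G)) (N : Subgroup G) [N.Normal] :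
    Cfsg.IsStronglyClosed (A.map (QuotientGroup.mk' N))
      ((S : Subgroup G).map (QuotientGroup.mk' N)) := by
  refine ⟨Subgroup.map_mono hA.1, ?_⟩
  rintro _ ⟨a, ha, rfl⟩ gbar hg
  obtain ⟨g, rfl⟩ := QuotientGroup.mk'_surjective N gbar
  obtain ⟨s, hs, hs'⟩ := hg
  set y : G := g * a * g⁻¹ with hy
  have hsy : (QuotientGroup.mk' N) s = (QuotientGroup.mk' N) y := by
    rw [hs', hy]; simp
  set M : Subgroup G := (S : Subgroup G) ⊔ N with hM
  have hyM : y ∈ M := by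
    have : s⁻¹ * y ∈ N := by
      rw [← QuotientGroup.eq]; exact hsy
    have e : y = s * (s⁻¹ * y) := by group
    rw [e]
    exact mul_mem (Subgroup.mem_sup_left hs) (Subgroup.mem_sup_right this)
  have hpy : IsPGroup p (Subgroup.zpowers y) := by
    have h1 : IsPGroup p (Subgroup.zpowers a) :=
      S.2.to_le (by rw [Subgroup.zpowers_le]; exact hA.1 ha)
    have h2 : Subgroup.zpowers y = (Subgroup.zpowers a).map (MulAut.conj g).toMonoidHom := by
      rw [MonoidHom.map_zpowers]; simp [hy]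
    rw [h2]
    exact h1.map _
  obtain ⟨c, hc, R, hR, hRM, hSR, hyR⟩ := exists_conj_le_pGroup M (S : Subgroup G)
    (Subgroup.zpowers y) le_sup_left (by rw [Subgroup.zpowers_le]; exact hyM) S.2 hpy
  have hRS : R = S := (S.3 hR hSR)
  have h1 : c * y * c⁻¹ ∈ (S : Subgroup G) := by
    rw [← hRS]
    exact hyR ⟨y, Subgroup.mem_zpowers y, by simp⟩
  have h2 : (c * g) * a * (c * g)⁻¹ ∈ A := by
    apply hA.2 a ha
    have e : (c * g) * a * (c * g)⁻¹ = c * y * c⁻¹ := by rw [hy]; group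
    rw [e]; exact h1
  -- write c⁻¹ = s' * n
  have hc' : c⁻¹ ∈ M := inv_mem hc
  rw [hM, Subgroup.mem_sup_of_normal_right] at hc'
  obtain ⟨s', hs', n, hn, hsn⟩ := hc'
  have h3 : s' * ((c * g) * a * (c * g)⁻¹) * s'⁻¹ ∈ A := by
    apply hA.2 _ h2
    exact mul_mem (mul_mem hs' (hA.1 h2)) (inv_mem hs')
  refine ⟨_, h3, ?_⟩
  have hmk : (QuotientGroup.mk' N) s' = (QuotientGroup.mk' N) c⁻¹ := by
    rw [← hsn, map_mul]
    have : (QuotientGroup.mk' N) n = 1 := by
      rw [← MonoidHom.mem_ker, QuotientGroup.ker_mk']; exact hn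
    rw [this, mul_one]
  simp only [map_mul, map_inv, hmk]
  group

/-- If `W` is weakly closed in a Sylow subgroup, then `N_G(W)` controls fusion in `C_G(W)`. -/
theorem IsWeaklyClosed.normalizer_controls_fusion [Finite G] {p : ℕ} [Fact p.Prime]
    (T : Sylow p G) (W : Subgroup G) (hW : Cfsg.IsWeaklyClosed W (T : Subgroup G)) (d g : G)
    (hd : d ∈ Subgroup.centralizer (W : Set G))
    (hgd : g * d * g⁻¹ ∈ Subgroup.centralizer (W : Set G)) :
    ∃ h ∈ Subgroup.normalizer (W : Set G), h * d * h⁻¹ = g * d * g⁻¹ := by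
  set C : Subgroup G := Subgroup.centralizer ({d} : Set G) with hC
  have hWp : IsPGroup p W := T.2.to_le hW.1
  have hWC : W ≤ C := by
    intro w hw
    rw [hC, Subgroup.mem_centralizer_singleton_iff]
    exact (Subgroup.mem_centralizer_iff.mp hd w hw)
  have hW'C : W.map (MulAut.conj g⁻¹).toMonoidHom ≤ C := by
    rintro _ ⟨w, hw, rfl⟩
    rw [hC, Subgroup.mem_centralizer_singleton_iff]
    have := Subgroup.mem_centralizer_iff.mp hgd w hw
    simp only [MulEquiv.coe_toMonoidHom, MulAut.conj_apply, inv_inv]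
    calc g⁻¹ * w * g * d = g⁻¹ * (w * (g * d * g⁻¹)) * g := by group
      _ = g⁻¹ * ((g * d * g⁻¹) * w) * g := by rw [this]
      _ = d * (g⁻¹ * w * g) := by group
  obtain ⟨c, hc, R, hR, -, hWR, hW'R⟩ := exists_conj_le_pGroup C W
    (W.map (MulAut.conj g⁻¹).toMonoidHom) hWC hW'C hWp (hWp.map _)
  obtain ⟨T', hT'⟩ := hR.exists_le_sylow
  obtain ⟨y, rfl⟩ := MulAction.exists_smul_eq G T T'
  have h1 : W.map (MulAut.conj y⁻¹).toMonoidHom = W := by
    apply hW.2
    rintro _ ⟨w, hw, rfl⟩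
    have := (mem_sylow_smul_iff T y w).mp (hT' (hWR hw))
    simpa using this
  have h2 : W.map (MulAut.conj (y⁻¹ * c * g⁻¹)).toMonoidHom = W := by
    apply hW.2
    rintro _ ⟨w, hw, rfl⟩
    have h3 : c * (g⁻¹ * w * g) * c⁻¹ ∈ R := by
      apply hW'R
      exact ⟨g⁻¹ * w * g, ⟨w, hw, by simp⟩, by simp⟩
    have := (mem_sylow_smul_iff T y _).mp (hT' h3)
    have e : (MulAut.conj (y⁻¹ * c * g⁻¹)).toMonoidHom w = y⁻¹ * (c * (g⁻¹ * w * g) * c⁻¹) * y := by
      simp only [MulEquiv.coe_toMonoidHom, MulAut.conj_apply]; group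
    rw [e]; exact this
  have n1 := mem_normalizer_of_map_conj_eq h1
  have n2 := mem_normalizer_of_map_conj_eq h2
  refine ⟨g * c⁻¹, ?_, ?_⟩
  · have e : g * c⁻¹ = (y⁻¹ * c * g⁻¹)⁻¹ * y⁻¹ := by group
    rw [e]
    exact mul_mem (inv_mem n2) n1
  · rw [hC, Subgroup.mem_centralizer_singleton_iff] at hc
    calc g * c⁻¹ * d * (g * c⁻¹)⁻¹ = g * (c⁻¹ * (d * c)) * g⁻¹ := by group
      _ = g * (c⁻¹ * (c * d)) * g⁻¹ := by rw [hc]
      _ = g * d * g⁻¹ := by group

end Cfsg.Agent.Lib.Helper21
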