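import Mathlib
import Cfsg.Prelude.Def_CaseTheorems

set_option autoImplicit false

namespace Cfsg.Agent.Lib.Helper21

open Subgroup

variable {G : Type*} [Group G]

/-- Ambient form of `PRankLE` for a subgroup. -/
theorem pRankLE_subgroup_iff (p k : ℕ) (X : Subgroup G) :
    Cfsg.PRankLE p k ↥X ↔ ∀ A : Subgroup G, A ≤ X → IsMulCommutative A → (∀ a ∈ A, a ^ p = 1) →
      Nat.card A ≤ p ^ k := by
  constructor
  · intro h A hAX hc he
    have e := Subgroup.subgroupOfEquivOfLe hAX
    rw [← Nat.card_congr e.toEquiv]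
    apply h (A.subgroupOf X)
    · exact ⟨⟨fun a b => e.injective (by rw [map_mul, map_mul]; exact hc.is_comm.comm _ _)⟩⟩
    · intro a ha
      apply Subtype.ext
      simpa using he a ha
  · intro h A hc he
    have e := Subgroup.equivMapOfInjective A X.subtype X.subtype_injective
    rw [Nat.card_congr e.toEquiv]
    apply h (A.map X.subtype)
    · rintro _ ⟨x, _, rfl⟩
      exact x.2
    · exact ⟨⟨fun a b => e.symm.injective (by rw [map_mul, map_mul]; exact hc.is_comm.comm _ _)⟩⟩
    · rintro _ ⟨a, ha, rfl⟩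
      have := he a ha
      simpa using congrArg Subtype.val this

theorem not_pRankLE_subgroup_iff (p k : ℕ) (X : Subgroup G) :
    ¬ Cfsg.PRankLE p k ↥X ↔ ∃ A : Subgroup G, A ≤ X ∧ IsMulCommutative A ∧ (∀ a ∈ A, a ^ p = 1) ∧
      p ^ k < Nat.card A := by
  rw [pRankLE_subgroup_iff]
  push Not
  rfl

theorem PRankLE.mono_subgroup {p k : ℕ} {X Y : Subgroup G} (hXY : X ≤ Y)
    (h : Cfsg.PRankLE p k ↥Y) : Cfsg.PRankLE p k ↥X := by
  rw [pRankLE_subgroup_iff] at h ⊢
  exact fun A hA => h A (hA.trans hXY)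

theorem PRankLE.of_mulEquiv {p k : ℕ} {A B : Type*} [Group A] [Group B] (e : A ≃* B)
    (h : Cfsg.PRankLE p k A) : Cfsg.PRankLE p k B := by
  intro X hc he
  have e' := Subgroup.equivMapOfInjective X e.symm.toMonoidHom e.symm.injective
  rw [Nat.card_congr e'.toEquiv]
  apply h
  · exact ⟨⟨fun a b => e'.symm.injective (by rw [map_mul, map_mul]; exact hc.is_comm.comm _ _)⟩⟩
  · rintro _ ⟨a, ha, rfl⟩
    rw [← map_pow, he a ha, map_one]

end Cfsg.Agent.Lib.Helper21
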