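import Cfsg.Agent.Lib.Helper21.Fusion
import Cfsg.Agent.Lib.Helper21.Rank

set_option autoImplicit false

namespace Cfsg.Agent.Lib.Helper21

open Subgroup

variable {G : Type*} [Group G]

/-- Normalisers grow in finite `p`-groups. -/
theorem lt_inf_normalizer_of_isPGroup {p : ℕ} [Fact p.Prime] [Finite G] {P T : Subgroup G}
    (hP : IsPGroup p P) (hT : T < P) : T < P ⊓ normalizer (T : Set G) := by
  have : Group.IsNilpotent P := hP.isNilpotent
  have h1 : T.subgroupOf P < ⊤ := by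
    rw [lt_top_iff_ne_top, Ne, Subgroup.subgroupOf_eq_top]
    exact not_le_of_gt hT
  have h2 := Group.normalizerCondition_of_isNilpotent (G := P) (T.subgroupOf P) h1
  rw [← Subgroup.subgroupOf_normalizer_eq hT.le] at h2
  refine lt_of_le_of_ne (le_inf hT.le Subgroup.le_normalizer) ?_
  intro heq
  apply h2.ne
  ext ⟨x, hx⟩
  simp only [Subgroup.mem_subgroupOf]
  constructor
  · intro h
    exact Subgroup.le_normalizer h
  · intro h
    rw [heq]
    exact ⟨hx, h⟩

/-- Every `p`-subgroup of `D` lies in a maximal `p`-subgroup of `D`. -/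
theorem exists_maximal_pSubgroup {p : ℕ} (D A : Subgroup G) (hA : A ≤ D) (hpA : IsPGroup p A) :
    ∃ U : Subgroup G, A ≤ U ∧ U ≤ D ∧ IsPGroup p U ∧
      ∀ R : Subgroup G, IsPGroup p R → U ≤ R → R ≤ D → R = U := by
  have hA' : IsPGroup p (A.subgroupOf D) := hpA.comap_subtype
  obtain ⟨Q, hQ⟩ := hA'.exists_le_sylow
  refine ⟨(Q : Subgroup D).map D.subtype, ?_, ?_, Q.2.map _, ?_⟩
  · intro a ha
    exact ⟨⟨a, hA ha⟩, hQ (by simpa [Subgroup.mem_subgroupOf] using ha), rfl⟩
  · rintro _ ⟨x, _, rfl⟩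
    exact x.2
  · intro R hR hUR hRD
    have h1 : IsPGroup p (R.subgroupOf D) := hR.comap_subtype
    have h2 : (Q : Subgroup D) ≤ R.subgroupOf D := by
      intro x hx
      rw [Subgroup.mem_subgroupOf]
      exact hUR ⟨x, hx, rfl⟩
    have h3 := Q.3 h1 h2
    rw [← h3, Subgroup.map_subgroupOf_eq_of_le hRD]

/-- A maximal `p`-subgroup `U` of `D` with `N_G(U) ≤ D` is a maximal `p`-subgroup of `G`. -/
theorem maximal_pSubgroup_of_normalizer_le {p : ℕ} [Fact p.Prime] [Finite G] {D U : Subgroup G}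
    (hmax : ∀ R : Subgroup G, IsPGroup p R → U ≤ R → R ≤ D → R = U)
    (hN : normalizer (U : Set G) ≤ D) :
    ∀ R : Subgroup G, IsPGroup p R → U ≤ R → R = U := by
  intro R hR hUR
  by_contra hne
  have hlt : U < R := lt_of_le_of_ne hUR (fun h => hne h.symm)
  have h1 := lt_inf_normalizer_of_isPGroup hR hlt
  have h2 := hmax (R ⊓ normalizer (U : Set G)) (hR.to_le inf_le_left) h1.le (inf_le_right.trans hN)
  exact h1.ne h2.symm

theorem normalizer_map_conj (X : Subgroup G) (g : G) :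
    normalizer ((X.map (MulAut.conj g).toMonoidHom : Subgroup G) : Set G) =
      (normalizer (X : Set G)).map (MulAut.conj g).toMonoidHom := by
  ext x
  rw [mem_map_conj_iff, Subgroup.mem_normalizer_iff, Subgroup.mem_normalizer_iff]
  constructor
  · intro h y
    have := h (g * y * g⁻¹)
    rw [mem_map_conj_iff, mem_map_conj_iff] at this
    have e1 : g⁻¹ * (g * y * g⁻¹) * g = y := by group
    have e2 : g⁻¹ * (x * (g * y * g⁻¹) * x⁻¹) * g = g⁻¹ * x * g * y * (g⁻¹ * x * g)⁻¹ := by group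
    rwa [e1, e2] at this
  · intro h y
    rw [mem_map_conj_iff, mem_map_conj_iff, h]
    have e2 : g⁻¹ * x * g * (g⁻¹ * y * g) * (g⁻¹ * x * g)⁻¹ = g⁻¹ * (x * y * x⁻¹) * g := by group
    rw [e2]

theorem pRankLE_map_conj_iff (p k : ℕ) (X : Subgroup G) (g : G) :
    Cfsg.PRankLE p k ↥(X.map (MulAut.conj g).toMonoidHom) ↔ Cfsg.PRankLE p k ↥X := by
  have e := Subgroup.equivMapOfInjective X (MulAut.conj g).toMonoidHom (MulAut.conj g).injective
  exact ⟨PRankLE.of_mulEquiv e.symm, PRankLE.of_mulEquiv e⟩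

end Cfsg.Agent.Lib.Helper21
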