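import Mathlib

/-!
Counting involutions in 2-groups of rank at least 3 (helper21).
* `dvd_card_of_blocks`: a finset partitioned into blocks of size divisible by `m`.
* `conjOrbit H s`, `card_conjOrbit_mul`: orbit-stabiliser for conjugation by a subgroup.
* `four_dvd_card_invols`: if `A ≤ P` is elementary abelian of order 8 then the number of solutions
  of `s * s = 1` in `P` is divisible by 4.
* `exists_involution_card_le`: a 2-group `P` containing `E_8`, `z` a central involution: there is an
  involution `s ≠ z` of `P` with `|P : C_P(s)| ≤ 2`.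
-/

namespace Cfsg.Agent.Lib.Helper21

open scoped Classical in
theorem dvd_card_of_blocks {α : Type*} (Y : Finset α) (f : α → Finset α) (m : ℕ)
    (h1 : ∀ y ∈ Y, y ∈ f y) (h2 : ∀ y ∈ Y, ∀ t ∈ f y, t ∈ Y ∧ f t = f y)
    (h3 : ∀ y ∈ Y, m ∣ (f y).card) : m ∣ Y.card := by
  rw [Finset.card_eq_sum_card_image f Y]
  apply Finset.dvd_sum
  intro b hb
  obtain ⟨y, hy, rfl⟩ := Finset.mem_image.mp hb
  have : Y.filter (fun t => f t = f y) = f y := by
    ext t
    simp only [Finset.mem_filter]
    constructor
    · rintro ⟨ht, hft⟩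
      rw [← hft]; exact h1 t ht
    · intro ht
      exact h2 y hy t ht
  rw [this]; exact h3 y hy

variable {G : Type*} [Group G]

/-- the orbit of `s` under conjugation by the subgroup `H`, as a finset -/
noncomputable def conjOrbit [Finite G] (H : Subgroup G) (s : G) : Finset G :=
  (Set.toFinite {t | ∃ h ∈ H, t = h * s * h⁻¹}).toFinset

theorem mem_conjOrbit [Finite G] (H : Subgroup G) (s t : G) :
    t ∈ conjOrbit H s ↔ ∃ h ∈ H, t = h * s * h⁻¹ := by
  simp [conjOrbit]

theorem self_mem_conjOrbit [Finite G] (H : Subgroup G) (s : G) : s ∈ conjOrbit H s :=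
  (mem_conjOrbit H s s).mpr ⟨1, H.one_mem, by simp⟩

theorem conjOrbit_conj [Finite G] (H : Subgroup G) (s : G) {h : G} (hh : h ∈ H) :
    conjOrbit H (h * s * h⁻¹) = conjOrbit H s := by
  ext t
  rw [mem_conjOrbit, mem_conjOrbit]
  constructor
  · rintro ⟨k, hk, rfl⟩
    exact ⟨k * h, H.mul_mem hk hh, by group⟩
  · rintro ⟨k, hk, rfl⟩
    exact ⟨k * h⁻¹, H.mul_mem hk (H.inv_mem hh), by group⟩

theorem conjOrbit_mono [Finite G] {H K : Subgroup G} (hHK : H ≤ K) (s : G) :
    conjOrbit H s ⊆ conjOrbit K s := by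
  intro t ht
  rw [mem_conjOrbit] at ht ⊢
  obtain ⟨h, hh, rfl⟩ := ht
  exact ⟨h, hHK hh, rfl⟩

theorem card_conjOrbit_mul [Finite G] (H : Subgroup G) (s : G) :
    (conjOrbit H s).card * Nat.card ↥(H ⊓ Subgroup.centralizer {s}) = Nat.card H := by
  let _ : MulAction H G := MulAction.compHom G ((MulAut.conj (G := G)).comp H.subtype)
  have hsmul : ∀ (h : H) (t : G), h • t = h.1 * t * h.1⁻¹ := fun h t => rfl
  have h1 := MulAction.index_stabilizer (G := H) s
  have h2 := Subgroup.card_mul_index (MulAction.stabilizer H s)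
  rw [h1] at h2
  have h3 : (MulAction.orbit H s).ncard = (conjOrbit H s).card := by
    rw [← Set.ncard_coe_finset]
    congr 1
    ext t
    simp only [MulAction.mem_orbit_iff, Finset.mem_coe, mem_conjOrbit, hsmul]
    constructor
    · rintro ⟨h, rfl⟩
      exact ⟨h.1, h.2, rfl⟩
    · rintro ⟨h, hh, rfl⟩
      exact ⟨⟨h, hh⟩, rfl⟩
  have h4 : Nat.card (MulAction.stabilizer H s) = Nat.card ↥(H ⊓ Subgroup.centralizer {s}) := by
    apply Nat.card_congr
    refine ⟨fun h => ⟨h.1.1, h.1.2, ?_⟩, fun h => ⟨⟨h.1, h.2.1⟩, ?_⟩, fun h => rfl, fun h => rfl⟩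
    · have := h.2
      rw [MulAction.mem_stabilizer_iff, hsmul] at this
      apply Subgroup.mem_centralizer_singleton_iff.mpr
      calc h.1.1 * s = (h.1.1 * s * h.1.1⁻¹) * h.1.1 := by group
        _ = s * h.1.1 := by rw [this]
    · have := Subgroup.mem_centralizer_singleton_iff.mp h.2.2
      rw [MulAction.mem_stabilizer_iff, hsmul]
      simp only
      rw [this]; group
  rw [← h2, h3, h4, mul_comm]

/-- solutions of `s * s = 1` in `P` -/
noncomputable def invols [Finite G] (P : Subgroup G) : Finset G :=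
  (Set.toFinite {s | s ∈ P ∧ s * s = 1}).toFinset

theorem mem_invols [Finite G] (P : Subgroup G) (s : G) : s ∈ invols P ↔ s ∈ P ∧ s * s = 1 := by
  simp [invols]

/-- the coset `C_A(s) s` as a finset -/
noncomputable def mulOrbit [Finite G] (A : Subgroup G) (s : G) : Finset G :=
  (Set.toFinite {t | ∃ b ∈ A ⊓ Subgroup.centralizer {s}, t = b * s}).toFinset

theorem mem_mulOrbit [Finite G] (A : Subgroup G) (s t : G) :
    t ∈ mulOrbit A s ↔ ∃ b ∈ A ⊓ Subgroup.centralizer {s}, t = b * s := by
  simp [mulOrbit]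

theorem card_mulOrbit [Finite G] (A : Subgroup G) (s : G) :
    (mulOrbit A s).card = Nat.card ↥(A ⊓ Subgroup.centralizer {s}) := by
  rw [← Nat.card_eq_finsetCard, eq_comm]
  apply Nat.card_congr
  refine Equiv.ofBijective (fun b => ⟨b.1 * s, (mem_mulOrbit A s _).mpr ⟨b.1, b.2, rfl⟩⟩) ⟨?_, ?_⟩
  · intro b c hbc
    have : b.1 * s = c.1 * s := congrArg Subtype.val hbc
    exact Subtype.ext (mul_right_cancel this)
  · rintro ⟨t, ht⟩
    obtain ⟨b, hb, rfl⟩ := (mem_mulOrbit A s t).mp ht
    exact ⟨⟨b, hb⟩, rfl⟩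

theorem four_dvd_card_invols [Finite G] (P A : Subgroup G) (hAP : A ≤ P) (hA8 : Nat.card A = 8)
    (hA2 : ∀ a ∈ A, a ^ 2 = 1) : 4 ∣ (invols P).card := by
  classical
  have hAinv : ∀ a ∈ A, a⁻¹ = a := by
    intro a ha
    have := hA2 a ha
    rw [pow_two] at this
    exact inv_eq_of_mul_eq_one_left this
  have hAcomm : ∀ a ∈ A, ∀ b ∈ A, a * b = b * a := by
    intro a ha b hb
    have h1 := hAinv _ (A.mul_mem ha hb)
    rw [mul_inv_rev, hAinv a ha, hAinv b hb] at h1
    exact h1.symm
  have hdvd : ∀ s : G, Nat.card ↥(A ⊓ Subgroup.centralizer {s}) ∣ 8 := by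
    intro s
    rw [← hA8]; exact Subgroup.card_dvd_of_le inf_le_left
  have hc1 : ∀ s : G, ∀ a ∈ A, A ⊓ Subgroup.centralizer {a * s * a⁻¹} = A ⊓ Subgroup.centralizer {s} := by
    intro s a ha
    ext b
    simp only [Subgroup.mem_inf, Subgroup.mem_centralizer_singleton_iff]
    constructor
    · rintro ⟨hb, h⟩
      refine ⟨hb, ?_⟩
      have hab := hAcomm a ha b hb
      have hab' : a⁻¹ * b = b * a⁻¹ := by
        rw [hAinv a ha]; exact hab
      calc b * s = a⁻¹ * (b * (a * s * a⁻¹)) * a := by
            rw [← mul_assoc, hab']; group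
        _ = a⁻¹ * ((a * s * a⁻¹) * b) * a := by rw [h]
        _ = s * (a⁻¹ * b) * a := by group
        _ = s * b := by rw [hab']; group
    · rintro ⟨hb, h⟩
      refine ⟨hb, ?_⟩
      have hab := hAcomm a ha b hb
      have hab' : a⁻¹ * b = b * a⁻¹ := by
        rw [hAinv a ha]; exact hab
      calc b * (a * s * a⁻¹) = (b * a) * s * a⁻¹ := by group
        _ = a * (b * s) * a⁻¹ := by rw [← hab]; group
        _ = a * s * (b * a⁻¹) := by rw [h]; group
        _ = a * s * a⁻¹ * b := by rw [← hab']; group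
  have hc2 : ∀ s : G, ∀ b ∈ A ⊓ Subgroup.centralizer {s},
      A ⊓ Subgroup.centralizer {b * s} = A ⊓ Subgroup.centralizer {s} := by
    intro s b hb
    ext c
    simp only [Subgroup.mem_inf, Subgroup.mem_centralizer_singleton_iff]
    constructor
    · rintro ⟨hc, h⟩
      refine ⟨hc, ?_⟩
      have hbc := hAcomm b hb.1 c hc
      have : b * (c * s) = b * (s * c) := by
        calc b * (c * s) = c * (b * s) := by rw [← mul_assoc, hbc, mul_assoc]
          _ = b * s * c := h
          _ = b * (s * c) := by rw [mul_assoc]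
      exact mul_left_cancel this
    · rintro ⟨hc, h⟩
      refine ⟨hc, ?_⟩
      have hbc := hAcomm b hb.1 c hc
      calc c * (b * s) = b * (c * s) := by rw [← mul_assoc, ← hbc, mul_assoc]
        _ = b * s * c := by rw [h, mul_assoc]
  rw [← Finset.card_filter_add_card_filter_not (s := invols P)
    (fun s => 4 ≤ Nat.card ↥(A ⊓ Subgroup.centralizer {s}))]
  apply Nat.dvd_add
  · -- big centralizers: left multiplication
    apply dvd_card_of_blocks _ (mulOrbit A)
    · intro s _
      exact (mem_mulOrbit A s s).mpr ⟨1, one_mem _, by simp⟩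
    · intro s hs t ht
      rw [Finset.mem_filter, mem_invols] at hs
      obtain ⟨b, hb, rfl⟩ := (mem_mulOrbit A s t).mp ht
      have hbs : b * s = s * b := Subgroup.mem_centralizer_singleton_iff.mp hb.2
      refine ⟨?_, ?_⟩
      · rw [Finset.mem_filter, mem_invols, hc2 s b hb]
        refine ⟨⟨P.mul_mem (hAP hb.1) hs.1.1, ?_⟩, hs.2⟩
        have hbb : b * b = 1 := by rw [← pow_two]; exact hA2 b hb.1
        calc b * s * (b * s) = b * (s * b) * s := by group
          _ = (b * b) * (s * s) := by rw [← hbs]; group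
          _ = 1 := by rw [hbb, hs.1.2, one_mul]
      · ext t
        rw [mem_mulOrbit, mem_mulOrbit, hc2 s b hb]
        constructor
        · rintro ⟨c, hc, rfl⟩
          exact ⟨c * b, mul_mem hc hb, by group⟩
        · rintro ⟨c, hc, rfl⟩
          exact ⟨c * b⁻¹, mul_mem hc (inv_mem hb), by group⟩
    · intro s hs
      rw [Finset.mem_filter] at hs
      rw [card_mulOrbit]
      have h1 := hdvd s
      have h2 := hs.2
      have h3 : Nat.card ↥(A ⊓ Subgroup.centralizer {s}) ≤ 8 := Nat.le_of_dvd (by norm_num) h1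
      generalize Nat.card ↥(A ⊓ Subgroup.centralizer {s}) = k at h1 h2 h3
      interval_cases k <;> omega
  · -- small centralizers: conjugation
    apply dvd_card_of_blocks _ (conjOrbit A)
    · intro s _
      exact self_mem_conjOrbit A s
    · intro s hs t ht
      rw [Finset.mem_filter, mem_invols] at hs
      obtain ⟨a, ha, rfl⟩ := (mem_conjOrbit A s t).mp ht
      refine ⟨?_, conjOrbit_conj A s ha⟩
      rw [Finset.mem_filter, mem_invols, hc1 s a ha]
      refine ⟨⟨P.mul_mem (P.mul_mem (hAP ha) hs.1.1) (P.inv_mem (hAP ha)), ?_⟩, hs.2⟩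
      calc a * s * a⁻¹ * (a * s * a⁻¹) = a * (s * s) * a⁻¹ := by group
        _ = 1 := by rw [hs.1.2]; group
    · intro s hs
      rw [Finset.mem_filter] at hs
      have h1 := hdvd s
      have h2 := hs.2
      have h4 := card_conjOrbit_mul A s
      rw [hA8] at h4
      have h3 : Nat.card ↥(A ⊓ Subgroup.centralizer {s}) ≤ 8 := Nat.le_of_dvd (by norm_num) h1
      generalize Nat.card ↥(A ⊓ Subgroup.centralizer {s}) = k at h1 h2 h3 h4
      generalize (conjOrbit A s).card = c at h4
      interval_cases k <;> omega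

theorem exists_involution_card_le [Finite G] (P A : Subgroup G) (hP : IsPGroup 2 P) (hAP : A ≤ P)
    (hA8 : Nat.card A = 8) (hA2 : ∀ a ∈ A, a ^ 2 = 1) (z : G) (hzP : z ∈ P) (hz : orderOf z = 2)
    (hzc : ∀ g ∈ P, g * z = z * g) :
    ∃ s ∈ P, orderOf s = 2 ∧ s ≠ z ∧ Nat.card P ≤ 2 * Nat.card ↥(P ⊓ Subgroup.centralizer {s}) := by
  classical
  by_contra hcon
  push Not at hcon
  have h4 := four_dvd_card_invols P A hAP hA8 hA2
  have hz1 : z ≠ 1 := by
    rintro rfl
    simp at hz
  have hzz : z * z = 1 := by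
    rw [← pow_two, ← hz]; exact pow_orderOf_eq_one z
  have h1I : (1 : G) ∈ invols P := (mem_invols P 1).mpr ⟨P.one_mem, by simp⟩
  have hzI : z ∈ (invols P).erase 1 := Finset.mem_erase.mpr ⟨hz1, (mem_invols P z).mpr ⟨hzP, hzz⟩⟩
  have hcard : (((invols P).erase 1).erase z).card + 2 = (invols P).card := by
    rw [Finset.card_erase_of_mem hzI, Finset.card_erase_of_mem h1I]
    have : 1 ≤ ((invols P).erase 1).card := Finset.card_pos.mpr ⟨z, hzI⟩
    rw [Finset.card_erase_of_mem h1I] at this
    omega
  have h4' : 4 ∣ (((invols P).erase 1).erase z).card := by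
    apply dvd_card_of_blocks _ (conjOrbit P)
    · intro s _
      exact self_mem_conjOrbit P s
    · intro s hs t ht
      rw [Finset.mem_erase, Finset.mem_erase, mem_invols] at hs
      obtain ⟨a, ha, rfl⟩ := (mem_conjOrbit P s t).mp ht
      refine ⟨?_, conjOrbit_conj P s ha⟩
      rw [Finset.mem_erase, Finset.mem_erase, mem_invols]
      refine ⟨?_, ?_, P.mul_mem (P.mul_mem ha hs.2.2.1) (P.inv_mem ha), ?_⟩
      · intro h
        apply hs.1
        have : a * s = a * z := by
          calc a * s = (a * s * a⁻¹) * a := by group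
            _ = z * a := by rw [h]
            _ = a * z := (hzc a ha).symm
        exact mul_left_cancel this
      · intro h
        apply hs.2.1
        calc s = a⁻¹ * (a * s * a⁻¹) * a := by group
          _ = 1 := by rw [h]; group
      · calc a * s * a⁻¹ * (a * s * a⁻¹) = a * (s * s) * a⁻¹ := by group
          _ = 1 := by rw [hs.2.2.2]; group
    · intro s hs
      rw [Finset.mem_erase, Finset.mem_erase, mem_invols] at hs
      have hs2 : orderOf s = 2 := by
        apply orderOf_eq_prime
        · rw [pow_two]; exact hs.2.2.2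
        · exact hs.2.1
      have h5 := hcon s hs.2.2.1 hs2 hs.1
      have h6 := card_conjOrbit_mul P s
      obtain ⟨k, hk⟩ := (IsPGroup.iff_card).mp hP
      have h7 : (conjOrbit P s).card ∣ 2 ^ k := by
        rw [← hk, ← h6]; exact Dvd.intro _ rfl
      obtain ⟨j, _, hj⟩ := (Nat.dvd_prime_pow Nat.prime_two).mp h7
      rw [hj] at h6 ⊢
      rw [← h6] at h5
      have hpos : 0 < Nat.card ↥(P ⊓ Subgroup.centralizer {s}) := Nat.card_pos
      have h8 : 2 < 2 ^ j := by
        by_contra h9
        push Not at h9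
        have := Nat.mul_le_mul_right (Nat.card ↥(P ⊓ Subgroup.centralizer {s})) h9
        omega
      have h9 : 2 ≤ j := by
        by_contra h10
        push Not at h10
        interval_cases j <;> omega
      exact pow_dvd_pow 2 h9
  omega

/-- adjoin a commuting involution to a subgroup of exponent 2 -/
theorem exists_extend_exp_two (F : Subgroup G) (hF : ∀ e ∈ F, e ^ 2 = 1) (y : G) (hy : y * y = 1)
    (hc : ∀ e ∈ F, e * y = y * e) :
    ∃ F' : Subgroup G, F ≤ F' ∧ y ∈ F' ∧ (∀ e ∈ F', e ^ 2 = 1) ∧ ∀ e ∈ F', e ∈ F ∨ e * y ∈ F := by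
  have hyinv : y⁻¹ = y := inv_eq_of_mul_eq_one_left hy
  refine ⟨{ carrier := {e | e ∈ F ∨ e * y ∈ F}
            mul_mem' := ?_
            one_mem' := Or.inl F.one_mem
            inv_mem' := ?_ }, ?_, ?_, ?_, ?_⟩
  · rintro a b (ha | ha) (hb | hb)
    · exact Or.inl (F.mul_mem ha hb)
    · right
      rw [mul_assoc]; exact F.mul_mem ha hb
    · right
      have : a * b * y = (a * y) * b := by rw [mul_assoc, hc b hb, mul_assoc]
      rw [this]; exact F.mul_mem ha hb
    · left
      have h1 := hc _ hb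
      have : a * b = (a * y) * (b * y) := by
        have h2 : y * b = b * y := by
          have : y * b * y = b * y * y := by rw [h1, mul_assoc]
          exact mul_right_cancel this
        calc a * b = a * (y * y) * b := by rw [hy, mul_one]
          _ = a * y * (y * b) := by group
          _ = a * y * (b * y) := by rw [h2]
      rw [this]; exact F.mul_mem ha hb
  · rintro a (ha | ha)
    · exact Or.inl (F.inv_mem ha)
    · right
      have h1 := hc _ ha
      have h2 : a * y = y * a := by
        have : a * y * y = y * a * y := by rw [h1, mul_assoc]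
        exact mul_right_cancel this
      have : a⁻¹ * y = (a * y)⁻¹ := by
        rw [h2, mul_inv_rev, hyinv]
      rw [this]; exact F.inv_mem ha
  · intro e he
    exact Or.inl he
  · right
    rw [hy]; exact F.one_mem
  · rintro e (he | he)
    · exact hF e he
    · have h1 := hc _ he
      have h2 := hF _ he
      have h3 : e * y = y * e := by
        have : e * y * y = y * e * y := by rw [h1, mul_assoc]
        exact mul_right_cancel this
      rw [pow_two] at h2 ⊢
      calc e * e = e * (y * y) * e := by rw [hy, mul_one]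
        _ = (e * y) * (y * e) := by group
        _ = (e * y) * (e * y) := by rw [h3]
        _ = 1 := h2
  · intro e he
    exact he

theorem isPGroup_two_of_exp_two (F : Subgroup G) (hF : ∀ e ∈ F, e ^ 2 = 1) : IsPGroup 2 F := by
  intro e
  exact ⟨1, by
    apply Subtype.ext
    simpa using hF e.1 e.2⟩

/-- a strictly larger finite subgroup has at least twice the order -/
theorem two_mul_card_le_of_lt [Finite G] {F F' : Subgroup G} (h : F ≤ F') {y : G} (hy : y ∈ F')
    (hy' : y ∉ F) : 2 * Nat.card F ≤ Nat.card F' := by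
  obtain ⟨k, hk⟩ := Subgroup.card_dvd_of_le h
  have hpos : 0 < Nat.card F' := Nat.card_pos
  have hposF : 0 < Nat.card F := Nat.card_pos
  rcases k with _ | _ | k
  · simp at hk; omega
  · exfalso
    apply hy'
    have : F = F' := Subgroup.eq_of_le_of_card_ge h (by rw [hk]; simp)
    rw [this]; exact hy
  · rw [hk]; nlinarith

/-- an exponent-2 subgroup of order at least 8 contains one of order exactly 8 -/
theorem exists_le_card_eight [Finite G] (F : Subgroup G) (hF : ∀ e ∈ F, e ^ 2 = 1)
    (h8 : 8 ≤ Nat.card F) : ∃ E ≤ F, Nat.card E = 8 ∧ ∀ e ∈ E, e ^ 2 = 1 := by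
  obtain ⟨H, hH⟩ := Sylow.exists_subgroup_card_pow_prime_of_le_card (n := 3) Nat.prime_two
    (isPGroup_two_of_exp_two F hF) (by simpa using h8)
  refine ⟨H.map F.subtype, Subgroup.map_subtype_le H, ?_, ?_⟩
  · rw [Subgroup.card_map_of_injective F.subtype_injective, hH]; norm_num
  · intro e he
    exact hF e (Subgroup.map_subtype_le H he)

end Cfsg.Agent.Lib.Helper21
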