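import Cfsg.Agent.Lib.Helper21.Quasisimple
set_option autoImplicit false
open Cfsg Subgroup
open scoped commutatorElement
namespace Cfsg.Agent.Lib.Helper21

/-- If the central quotient of `X` is non-abelian simple then `X = X' Z(X)`. -/
theorem commutator_sup_center_eq_top {X : Type*} [Group X]
    (hs : IsSimpleGroup (X ⧸ Subgroup.center X)) (hna : ¬ IsMulCommutative (X ⧸ Subgroup.center X)) :
    commutator X ⊔ Subgroup.center X = ⊤ := by
  have hn : ((commutator X).map (QuotientGroup.mk' (Subgroup.center X))).Normal :=
    Subgroup.Normal.map inferInstance _ (QuotientGroup.mk'_surjective _)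
  rcases hn.eq_bot_or_eq_top with h | h
  · exfalso
    apply hna
    rw [Subgroup.map_eq_bot_iff, QuotientGroup.ker_mk'] at h
    refine ⟨⟨fun a b => ?_⟩⟩
    obtain ⟨a, rfl⟩ := QuotientGroup.mk'_surjective _ a
    obtain ⟨b, rfl⟩ := QuotientGroup.mk'_surjective _ b
    have h1 : ⁅a, b⁆ ∈ Subgroup.center X := h (Subgroup.commutator_mem_commutator (Subgroup.mem_top a) (Subgroup.mem_top b))
    have h2 : (QuotientGroup.mk' (Subgroup.center X)) ⁅a, b⁆ = 1 := by
      rw [← MonoidHom.mem_ker, QuotientGroup.ker_mk']; exact h1
    rw [map_commutatorElement, commutatorElement_eq_one_iff_mul_comm] at h2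
    exact h2
  · have := congrArg (Subgroup.comap (QuotientGroup.mk' (Subgroup.center X))) h
    rw [Subgroup.comap_map_eq, QuotientGroup.ker_mk', Subgroup.comap_top] at this
    exact this

/-- If the central quotient of `X` is non-abelian simple then `X'` is quasisimple. -/
theorem isQuasisimple_commutator {X : Type*} [Group X]
    (hs : IsSimpleGroup (X ⧸ Subgroup.center X)) (hna : ¬ IsMulCommutative (X ⧸ Subgroup.center X)) :
    Cfsg.IsQuasisimple ↥(commutator X) := by
  have htop := commutator_sup_center_eq_top hs hna
  have hperf : ⁅commutator X, commutator X⁆ = commutator X :=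
    le_antisymm (Subgroup.commutator_le_left _ _) (commutator_le_of_sup_center_eq_top _ htop)
  refine ⟨Subgroup.isPerfect_iff.mpr hperf, ?_⟩
  -- centre of X' is X' ∩ Z(X)
  have hcen : Subgroup.center ↥(commutator X) = (Subgroup.center X).subgroupOf (commutator X) := by
    ext ⟨x, hx⟩
    rw [Subgroup.mem_subgroupOf, Subgroup.mem_center_iff, Subgroup.mem_center_iff]
    constructor
    · intro h g
      have hg : g ∈ commutator X ⊔ Subgroup.center X := htop ▸ Subgroup.mem_top g
      rw [Subgroup.mem_sup_of_normal_right] at hg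
      obtain ⟨a, ha, z, hz, rfl⟩ := hg
      have h1 := congrArg Subtype.val (h ⟨a, ha⟩)
      simp only [Subgroup.coe_mul] at h1
      rw [Subgroup.mem_center_iff] at hz
      calc a * z * x = a * (z * x) := by group
        _ = a * (x * z) := by rw [hz x]
        _ = (a * x) * z := by group
        _ = (x * a) * z := by rw [h1]
        _ = x * (a * z) := by group
    · intro h g
      exact Subtype.ext (h g)
  let f : ↥(commutator X) →* X ⧸ Subgroup.center X :=
    (QuotientGroup.mk' (Subgroup.center X)).comp (commutator X).subtype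
  have hf : Function.Surjective f := by
    intro y
    obtain ⟨g, rfl⟩ := QuotientGroup.mk'_surjective _ y
    have hg : g ∈ commutator X ⊔ Subgroup.center X := htop ▸ Subgroup.mem_top g
    rw [Subgroup.mem_sup_of_normal_right] at hg
    obtain ⟨a, ha, z, hz, rfl⟩ := hg
    refine ⟨⟨a, ha⟩, ?_⟩
    simp only [f, MonoidHom.comp_apply, Subgroup.subtype_apply, QuotientGroup.mk'_apply]
    rw [QuotientGroup.eq]
    simpa using hz
  have hker : f.ker = Subgroup.center ↥(commutator X) := by
    rw [hcen]
    ext x
    simp [f, MonoidHom.mem_ker, Subgroup.mem_subgroupOf]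
  let e : ↥(commutator X) ⧸ Subgroup.center ↥(commutator X) ≃* X ⧸ Subgroup.center X :=
    (QuotientGroup.quotientMulEquivOfEq hker.symm).trans
      (QuotientGroup.quotientKerEquivOfSurjective f hf)
  exact e.isSimpleGroup

end Cfsg.Agent.Lib.Helper21
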