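import Cfsg.Agent.Lib.Helper21.SylowLemmas
import Cfsg.Prelude.Def_Involutions

set_option autoImplicit false

namespace Cfsg.Agent.Lib.Helper21

open Subgroup

variable {G : Type*} [Group G]

theorem sq_eq_one_of_orderOf_two {x : G} (hx : orderOf x = 2) : x * x = 1 := by
  have := pow_orderOf_eq_one x
  rwa [hx, pow_two] at this

theorem inv_eq_self_of_orderOf_two {x : G} (hx : orderOf x = 2) : x⁻¹ = x :=
  inv_eq_of_mul_eq_one_left (sq_eq_one_of_orderOf_two hx)

theorem ne_one_of_orderOf_two {x : G} (hx : orderOf x = 2) : x ≠ 1 := by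
  rintro rfl
  simp at hx

theorem orderOf_two_of_sq {x : G} (h1 : x * x = 1) (h2 : x ≠ 1) : orderOf x = 2 := by
  apply orderOf_eq_prime
  · rw [pow_two]; exact h1
  · exact h2

theorem orderOf_conj_eq' (g x : G) : orderOf (g * x * g⁻¹) = orderOf x := by
  have := (MulAut.conj g).orderOf_eq x
  simpa using this

/-- A group of odd order has no involution. -/
theorem not_orderOf_two_of_odd_card {K : Subgroup G} (hK : Odd (Nat.card K)) {x : G} (hx : x ∈ K) :
    orderOf x ≠ 2 := by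
  intro h
  have h1 : orderOf (⟨x, hx⟩ : K) = 2 := by rw [Subgroup.orderOf_mk, h]
  have h2 := orderOf_dvd_natCard (⟨x, hx⟩ : K)
  rw [h1] at h2
  exact (Nat.not_even_iff_odd.mpr hK) (even_iff_two_dvd.mpr h2)

theorem smul_mk_eq_iff (H : Subgroup G) (a g : G) :
    a • (g : G ⧸ H) = (g : G ⧸ H) ↔ g⁻¹ * a * g ∈ H := by
  rw [MulAction.Quotient.smul_coe, eq_comm, QuotientGroup.eq, smul_eq_mul, mul_assoc]

theorem smul_mk_eq_mk_iff (H : Subgroup G) (a g g' : G) :
    a • (g : G ⧸ H) = (g' : G ⧸ H) ↔ g'⁻¹ * a * g ∈ H := by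
  rw [MulAction.Quotient.smul_coe, eq_comm, QuotientGroup.eq, smul_eq_mul, mul_assoc]

theorem conj_pow_odd_of_inverts {g x : G} (h : g * x * g⁻¹ = x⁻¹) {k : ℕ} (hk : Odd k) :
    g ^ k * x * (g ^ k)⁻¹ = x⁻¹ := by
  obtain ⟨m, rfl⟩ := hk
  induction m with
  | zero => simpa using h
  | succ m ih =>
    have e1 : g ^ (2 * (m + 1) + 1) = g * g * g ^ (2 * m + 1) := by
      rw [show 2 * (m + 1) + 1 = 1 + 1 + (2 * m + 1) by ring, pow_add, pow_add, pow_one]
    rw [e1]
    calc g * g * g ^ (2 * m + 1) * x * (g * g * g ^ (2 * m + 1))⁻¹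
        = g * (g * (g ^ (2 * m + 1) * x * (g ^ (2 * m + 1))⁻¹) * g⁻¹) * g⁻¹ := by
          simp only [mul_inv_rev, mul_assoc]
      _ = g * (g * x⁻¹ * g⁻¹) * g⁻¹ := by rw [ih]
      _ = g * (g * x * g⁻¹)⁻¹ * g⁻¹ := by simp only [mul_inv_rev, inv_inv, mul_assoc]
      _ = x⁻¹ := by rw [h, inv_inv]; exact h

namespace IsStronglyEmbedded

variable {H : Subgroup G}

/-- If an involution of `H` is conjugated into `H` by `g`, then `g ∈ H`. -/
theorem mem_of_conj_mem (hH : Cfsg.IsStronglyEmbedded H) {t g : G} (ht : orderOf t = 2)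
    (htH : t ∈ H) (h : g * t * g⁻¹ ∈ H) : g ∈ H := by
  by_contra hg
  have hodd := hH.2.2 g hg
  refine not_orderOf_two_of_odd_card hodd (x := g * t * g⁻¹) ⟨h, ⟨t, htH, by simp⟩⟩ ?_
  rw [orderOf_conj_eq', ht]

/-- An involution fixes at most one coset. -/
theorem fixed_unique (hH : Cfsg.IsStronglyEmbedded H) {a : G} (ha : orderOf a = 2) {x y : G ⧸ H}
    (hx : a • x = x) (hy : a • y = y) : x = y := by
  obtain ⟨g1, rfl⟩ := QuotientGroup.mk_surjective x
  obtain ⟨g2, rfl⟩ := QuotientGroup.mk_surjective y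
  rw [smul_mk_eq_iff] at hx hy
  rw [QuotientGroup.eq]
  have h1 : orderOf (g2⁻¹ * a * g2) = 2 := by
    have := orderOf_conj_eq' g2⁻¹ a
    rw [inv_inv] at this
    rw [this, ha]
  apply mem_of_conj_mem hH h1 hy
  have e : g1⁻¹ * g2 * (g2⁻¹ * a * g2) * (g1⁻¹ * g2)⁻¹ = g1⁻¹ * a * g1 := by group
  rw [e]; exact hx

theorem exists_invol_mem [Finite G] (hH : Cfsg.IsStronglyEmbedded H) : ∃ t ∈ H, orderOf t = 2 := by
  have : Fact (Nat.Prime 2) := ⟨Nat.prime_two⟩
  obtain ⟨t, ht⟩ := exists_prime_orderOf_dvd_card' (G := H) 2 (even_iff_two_dvd.mp hH.2.1)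
  exact ⟨t, t.2, by rw [← ht, Subgroup.orderOf_coe]⟩

/-- Every involution of `G` is conjugate into `H`. -/
theorem exists_conj_mem [Finite G] (hH : Cfsg.IsStronglyEmbedded H) {a : G} (ha : orderOf a = 2) :
    ∃ c : G, c * a * c⁻¹ ∈ H := by
  have : Fact (Nat.Prime 2) := ⟨Nat.prime_two⟩
  obtain ⟨t, htH, ht⟩ := exists_invol_mem hH
  have hp : ∀ x : G, orderOf x = 2 → IsPGroup 2 (zpowers x) := by
    intro x hx
    apply IsPGroup.of_card (n := 1)
    rw [Nat.card_zpowers, hx, pow_one]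
  obtain ⟨U, hAU, hUH, hUp, hUmax⟩ := exists_maximal_pSubgroup H (zpowers t)
    (by rw [zpowers_le]; exact htH) (hp t ht)
  have htU : t ∈ U := hAU (mem_zpowers t)
  have hN : normalizer (U : Set G) ≤ H := by
    intro g hg
    apply mem_of_conj_mem hH ht htH
    exact hUH ((Subgroup.mem_normalizer_iff.mp hg t).mp htU)
  have hmaxG := maximal_pSubgroup_of_normalizer_le hUmax hN
  obtain ⟨c, -, R, hR, -, hUR, haR⟩ := exists_conj_le_pGroup ⊤ U (zpowers a) le_top le_top hUp
    (hp a ha)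
  refine ⟨c, hUH ?_⟩
  rw [← hmaxG R hR hUR]
  exact haR ⟨a, mem_zpowers a, by simp⟩

/-- Every involution fixes a coset. -/
theorem exists_fixed [Finite G] (hH : Cfsg.IsStronglyEmbedded H) {a : G} (ha : orderOf a = 2) :
    ∃ x : G ⧸ H, a • x = x := by
  obtain ⟨c, hc⟩ := exists_conj_mem hH ha
  refine ⟨(c⁻¹ : G), ?_⟩
  rw [smul_mk_eq_iff]
  simpa using hc

/-- An element commuting with an involution fixes its fixed coset. -/
theorem smul_eq_of_commute (hH : Cfsg.IsStronglyEmbedded H) {a c : G} (ha : orderOf a = 2)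
    (hc : Commute c a) {x : G ⧸ H} (hx : a • x = x) : c • x = x := by
  apply fixed_unique hH ha _ hx
  rw [← mul_smul, ← hc.eq, mul_smul, hx]

/-- Two involutions with different fixed cosets have a product of odd order. -/
theorem odd_orderOf_mul [Finite G] (hH : Cfsg.IsStronglyEmbedded H) {s i : G} (hs : orderOf s = 2)
    (hi : orderOf i = 2) {x : G ⧸ H} (hsx : s • x = x) (hix : i • x ≠ x) :
    Odd (orderOf (i * s)) := by
  rw [← Nat.not_even_iff_odd]
  rintro ⟨j, hj⟩
  set r := i * s with hr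
  have hs2 := sq_eq_one_of_orderOf_two hs
  have hi2 := sq_eq_one_of_orderOf_two hi
  have hsi := inv_eq_self_of_orderOf_two hs
  have hii := inv_eq_self_of_orderOf_two hi
  have hpos : 0 < orderOf r := orderOf_pos r
  have hj0 : 0 < j := by omega
  set z := r ^ j with hz
  have hz2 : z * z = 1 := by rw [hz, ← pow_add, ← hj, pow_orderOf_eq_one]
  have hz1 : z ≠ 1 := by
    intro h
    have := orderOf_le_of_pow_eq_one hj0 h
    omega
  have hzo : orderOf z = 2 := orderOf_two_of_sq hz2 hz1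
  have hzi := inv_eq_self_of_orderOf_two hzo
  have hsr : s * r * s⁻¹ = r⁻¹ := by
    rw [hr, mul_inv_rev, hsi, hii]
    calc s * (i * s) * s = s * i * (s * s) := by group
      _ = s * i := by rw [hs2, mul_one]
  have hir : i * r * i⁻¹ = r⁻¹ := by
    rw [hr, mul_inv_rev, hsi, hii]
    calc i * (i * s) * i = (i * i) * s * i := by group
      _ = s * i := by rw [hi2, one_mul]
  have hsz : Commute s z := by
    have h1 : s * z * s⁻¹ = z⁻¹ := by
      rw [hz, ← conj_pow, hsr, inv_pow]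
    rw [hzi] at h1
    exact (mul_inv_eq_iff_eq_mul.mp h1)
  have hiz : Commute i z := by
    have h1 : i * z * i⁻¹ = z⁻¹ := by
      rw [hz, ← conj_pow, hir, inv_pow]
    rw [hzi] at h1
    exact (mul_inv_eq_iff_eq_mul.mp h1)
  have hzx : z • x = x := smul_eq_of_commute hH hs hsz.symm hsx
  exact hix (smul_eq_of_commute hH hzo hiz hzx)

/-- An element centralised by `s` and inverted by `i`, where `i * s` has odd order, squares to `1`. -/
theorem sq_eq_one_of_centralized_inverted {s i e : G} (hodd : Odd (orderOf (i * s)))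
    (hs : Commute s e) (hi : i * e * i⁻¹ = e⁻¹) : e * e = 1 := by
  have hr : (i * s) * e * (i * s)⁻¹ = e⁻¹ := by
    calc (i * s) * e * (i * s)⁻¹ = i * (s * e) * s⁻¹ * i⁻¹ := by group
      _ = i * (e * s) * s⁻¹ * i⁻¹ := by rw [hs.eq]
      _ = i * e * i⁻¹ := by group
      _ = e⁻¹ := hi
  have hk := fun k hk => conj_pow_odd_of_inverts hr (k := k) hk
  have := hk _ hodd
  rw [pow_orderOf_eq_one] at this
  simp only [one_mul, inv_one, mul_one] at this
  calc e * e = e * e⁻¹ := by rw [← this]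
    _ = 1 := mul_inv_cancel e

end IsStronglyEmbedded

end Cfsg.Agent.Lib.Helper21
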